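import Groth.Agent.SmoothSliceLib.Core

/-!
Étale slices of smooth algebras containing a given formally unramified quotient.
-/

set_option autoImplicit false
universe u
open TensorProduct KaehlerDifferential Module

namespace Groth.Agent.EtSliceSubLib

variable {A T : Type u} [CommRing A] [CommRing T] [Algebra A T]

/-- The differentials of an ideal with formally unramified quotient span. -/
theorem span_differentials_ideal (J : Ideal T) [Algebra.FormallyUnramified A (T ⧸ J)]
    (K : Type u) [Field K] [Algebra T K] (hJK : ∀ r ∈ J, algebraMap T K r = 0) :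
    Submodule.span K ((fun r => (1 : K) ⊗ₜ[T] D A T r) '' (J : Set T)) = ⊤ := by
  have hS : Function.Surjective (algebraMap T (T ⧸ J)) := Ideal.Quotient.mk_surjective
  let l : T ⧸ J →ₗ[T] K :=
    (Ideal.Quotient.liftₐ J (Algebra.ofId T K) hJK).toLinearMap
  have hl : l 1 = 1 := map_one (Ideal.Quotient.liftₐ J (Algebra.ofId T K) hJK)
  have key : ∀ y : T, (1 : K) ⊗ₜ[T] D A T y ∈
      Submodule.span K ((fun r => (1 : K) ⊗ₜ[T] D A T r) '' (J : Set T)) := by
    intro y
    obtain ⟨w, hw⟩ := ((KaehlerDifferential.exact_kerCotangentToTensor_mapBaseChange A T (T ⧸ J) hS)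
      ((1 : T ⧸ J) ⊗ₜ[T] D A T y)).1 (Subsingleton.elim _ _)
    obtain ⟨v, rfl⟩ := Ideal.toCotangent_surjective _ w
    have hv : (v : T) ∈ J := Ideal.Quotient.eq_zero_iff_mem.1 v.2
    have h1 : (1 : T ⧸ J) ⊗ₜ[T] D A T (v : T) = (1 : T ⧸ J) ⊗ₜ[T] D A T y := hw
    have h2 := congrArg (l.rTensor Ω[T⁄A]) h1
    rw [LinearMap.rTensor_tmul, LinearMap.rTensor_tmul, hl] at h2
    rw [← h2]
    exact Submodule.subset_span ⟨_, hv, rfl⟩
  rw [eq_top_iff]
  rintro z -
  induction z using TensorProduct.induction_on with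
  | zero => exact zero_mem _
  | add a b ha hb => exact add_mem ha hb
  | tmul c ω =>
    have hω : (1 : K) ⊗ₜ[T] ω ∈ Submodule.span K ((fun r => (1 : K) ⊗ₜ[T] D A T r) '' (J : Set T)) := by
      have hmem : ω ∈ Submodule.span T (Set.range (D A T)) := by
        rw [KaehlerDifferential.span_range_derivation]; trivial
      induction hmem using Submodule.span_induction with
      | mem a ha => obtain ⟨y, rfl⟩ := ha; exact key y
      | zero => rw [TensorProduct.tmul_zero]; exact zero_mem _
      | add a b _ _ ha hb => rw [TensorProduct.tmul_add]; exact add_mem ha hb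
      | smul r a _ ha =>
        rw [TensorProduct.tmul_smul, ← algebraMap_smul K r]
        exact Submodule.smul_mem _ _ ha
    rw [show c ⊗ₜ[T] ω = c • ((1 : K) ⊗ₜ[T] ω) by rw [TensorProduct.smul_tmul', smul_eq_mul, mul_one]]
    exact Submodule.smul_mem _ _ hω

/-- An étale slice containing a closed subscheme which is formally unramified over the base. -/
theorem exists_etale_slice_containing [Algebra.IsStandardSmooth A T] (q : Ideal T) [q.IsPrime]
    (J : Ideal T) (hJ : J ≤ q) [Algebra.FormallyUnramified A (T ⧸ J)] :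
    ∃ (Dt : T) (I : Ideal (Localization.Away Dt)), Dt ∉ q ∧ I ≤ J.map (algebraMap T (Localization.Away Dt)) ∧
      Algebra.Etale A (Localization.Away Dt ⧸ I) := by
  classical
  haveI : Nontrivial T := ⟨0, 1, fun h => (‹q.IsPrime›.ne_top) ((Ideal.eq_top_iff_one q).2 (h ▸ q.zero_mem))⟩
  obtain ⟨t, hts, hsp, hli⟩ := exists_linearIndependent q.ResidueField
    ((fun r => (1 : q.ResidueField) ⊗ₜ[T] D A T r) '' (J : Set T))
  rw [span_differentials_ideal J q.ResidueField
    (fun r hr => Ideal.algebraMap_residueField_eq_zero.2 (hJ hr))] at hsp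
  let b₀ : Basis t q.ResidueField (q.ResidueField ⊗[T] Ω[T⁄A]) := Basis.mk hli (by rw [Subtype.range_coe, hsp])
  let b := Module.finBasis T Ω[T⁄A]
  let σ := b₀.indexEquiv (b.baseChange q.ResidueField)
  choose f hfq hf using fun i => hts (σ.symm i).2
  have hlf : LinearIndependent q.ResidueField fun i => (1 : q.ResidueField) ⊗ₜ[T] D A T (f i) := by
    rw [show (fun i => (1 : q.ResidueField) ⊗ₜ[T] D A T (f i)) = b₀ ∘ σ.symm from funext fun i => by
      rw [Function.comp_apply, Basis.mk_apply]; exact hf i]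
    exact b₀.linearIndependent.comp _ σ.symm.injective
  obtain ⟨Dt, hDt, het⟩ := SmoothSliceLib.exists_etale_coords b q.ResidueField f hlf
  let U := Localization.Away Dt
  let φ : MvPolynomial (Fin _) A →ₐ[A] U := MvPolynomial.aeval fun i => algebraMap T U (f i)
  letI : Algebra (MvPolynomial (Fin (Module.finrank T Ω[T⁄A])) A) U := φ.toRingHom.toAlgebra
  haveI : Algebra.Etale (MvPolynomial (Fin (Module.finrank T Ω[T⁄A])) A) U := het
  let P : Ideal (MvPolynomial (Fin (Module.finrank T Ω[T⁄A])) A) := Ideal.ofList (List.ofFn fun i => MvPolynomial.X i)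
  have hbij : Function.Bijective ((Ideal.Quotient.mk P).comp MvPolynomial.C) := CMSliceLib.bijective_mk_C P rfl
  refine ⟨Dt, P.map φ.toRingHom, fun h => hDt (Ideal.algebraMap_residueField_eq_zero.2 h), ?_, ?_⟩
  · rw [Ideal.map_le_iff_le_comap]
    refine Ideal.span_le.2 fun z hz => ?_
    obtain ⟨i, rfl⟩ := List.mem_ofFn.1 hz
    rw [SetLike.mem_coe, Ideal.mem_comap, AlgHom.toRingHom_eq_coe, RingHom.coe_coe, MvPolynomial.aeval_X]
    exact Ideal.mem_map_of_mem _ (hfq i)
  · have hc : (algebraMap (MvPolynomial (Fin (Module.finrank T Ω[T⁄A])) A) U).comp MvPolynomial.C = algebraMap A U :=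
      RingHom.ext fun r => φ.commutes r
    exact SmoothSliceLib.etale_quot MvPolynomial.C hc P hbij

end Groth.Agent.EtSliceSubLib
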