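import Groth.Agent.EtSliceSubLib.Core
import Groth.Agent.SmoothSliceLib.Scheme

/-!
Étale multisections of smooth morphisms containing a given closed subscheme unramified over the base.
-/

set_option autoImplicit false
set_option backward.isDefEq.respectTransparency false
set_option linter.style.haveILetI false

universe u

open CategoryTheory CategoryTheory.Limits AlgebraicGeometry Opposite TopologicalSpace

namespace Groth.Agent.EtSliceSubLib

variable {X Y Z : Scheme.{u}}

theorem exists_etale_closedSubscheme (f : X ⟶ Y) [Smooth f] (i : Z ⟶ X) [IsClosedImmersion i]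
    [IsImmersion (i ≫ f)] (z : Z) :
    ∃ (U : X.Opens) (_ : i.base z ∈ U) (W : Scheme.{u}) (j : W ⟶ (U : Scheme.{u})) (_ : IsClosedImmersion j)
      (_ : Etale (j ≫ U.ι ≫ f)) (g : ((i ⁻¹ᵁ U : Z.Opens) : Scheme.{u}) ⟶ W), g ≫ j = i ∣_ U := by
  obtain ⟨c, hc⟩ := SmoothSliceLib.exists_std_chart f (i z)
  let p := pullback.snd i c.j
  obtain ⟨J, e, he⟩ := IsClosedImmersion.Spec_iff.1 (inferInstance : IsClosedImmersion p)
  -- unramifiedness
  haveI : FormallyUnramified (Spec.map (CommRingCat.ofHom (algebraMap c.A (c.B ⧸ J))) ≫ c.i) := by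
    have : Spec.map (CommRingCat.ofHom (algebraMap c.A (c.B ⧸ J))) ≫ c.i =
        e.inv ≫ pullback.fst i c.j ≫ (i ≫ f) := by
      rw [IsScalarTower.algebraMap_eq c.A c.B (c.B ⧸ J), CommRingCat.ofHom_comp, Spec.map_comp, Category.assoc,
        ← c.w, pullback.condition_assoc, show pullback.snd i c.j = _ from he, Category.assoc,
        e.inv_hom_id_assoc]
      rfl
    rw [this]
    infer_instance
  have hfu : FormallyUnramified (Spec.map (CommRingCat.ofHom (algebraMap c.A (c.B ⧸ J)))) :=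
    FormallyUnramified.of_comp _ c.i
  haveI : Algebra.FormallyUnramified c.A (c.B ⧸ J) :=
    RingHom.formallyUnramified_algebraMap.1
      ((HasRingHomProperty.Spec_iff (P := @FormallyUnramified)).1 hfu :)
  have hJq : J ≤ c.q.asIdeal := by
    obtain ⟨w, -, hw⟩ := Scheme.Pullback.exists_preimage_pullback (f := i) (g := c.j) z c.q c.hq.symm
    have h : c.q = PrimeSpectrum.comap (Ideal.Quotient.mk J) (e.hom w) := by
      rw [← hw, show pullback.snd i c.j = _ from he]
      rfl
    intro r hr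
    rw [h]
    show Ideal.Quotient.mk J r ∈ (show PrimeSpectrum (c.B ⧸ J) from e.hom w).asIdeal
    rw [Ideal.Quotient.eq_zero_iff_mem.2 hr]
    exact zero_mem _
  obtain ⟨Dt, I, hDt, hI, het⟩ := exists_etale_slice_containing (A := c.A) c.q.asIdeal J hJq
  let T' := Localization.Away Dt
  let j₁ : Spec (.of T') ⟶ Spec (.of c.B) := Spec.map (CommRingCat.ofHom (algebraMap c.B T'))
  let j₂ : Spec (.of (T' ⧸ I)) ⟶ Spec (.of T') := Spec.map (CommRingCat.ofHom (Ideal.Quotient.mk I))
  haveI : IsOpenImmersion j₁ := IsOpenImmersion.of_isLocalization Dt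
  haveI : IsClosedImmersion j₂ := IsClosedImmersion.spec_of_surjective _ Ideal.Quotient.mk_surjective
  let o := j₁ ≫ c.j
  have hzU : i z ∈ o.opensRange := by
    obtain ⟨qU, hqU⟩ := (PrimeSpectrum.localization_away_comap_range T' Dt).ge
      (show c.q ∈ (PrimeSpectrum.basicOpen Dt : Set (PrimeSpectrum c.B)) from hDt)
    exact ⟨qU, (congrArg c.j hqU).trans c.hq⟩
  refine ⟨o.opensRange, hzU, Spec (.of (T' ⧸ I)), j₂ ≫ o.isoOpensRange.hom, inferInstance, ?_, ?_⟩
  · have hjf : (j₂ ≫ o.isoOpensRange.hom) ≫ o.opensRange.ι ≫ f =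
        Spec.map (CommRingCat.ofHom (algebraMap c.A (T' ⧸ I))) ≫ c.i := by
      rw [Category.assoc, Scheme.Hom.isoOpensRange_hom_ι_assoc]
      simp only [o, j₁, j₂, Category.assoc, c.w, ← Spec.map_comp_assoc, ← CommRingCat.ofHom_comp]
      rfl
    haveI : Etale (Spec.map (CommRingCat.ofHom (algebraMap c.A (T' ⧸ I)))) :=
      HasRingHomProperty.Spec_iff.2 (RingHom.etale_algebraMap.2 het)
    rw [hjf]
    infer_instance
  · let Z' : Scheme.{u} := (i ⁻¹ᵁ o.opensRange : Z.Opens)
    let h : Z' ⟶ Spec (.of T') := (i ∣_ o.opensRange) ≫ o.isoOpensRange.inv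
    let φ : T' →+* Γ(Z', ⊤) := ((Scheme.ΓSpecIso (.of T')).inv ≫ h.appTop).hom
    have hh : Z'.toSpecΓ ≫ Spec.map (CommRingCat.ofHom φ) = h := by
      show Z'.toSpecΓ ≫ Spec.map ((Scheme.ΓSpecIso (.of T')).inv ≫ h.appTop) = h
      rw [Spec.map_comp, ← Scheme.toSpecΓ_naturality_assoc, toSpecΓ_SpecMap_ΓSpecIso_inv, Category.comp_id]
    have hk : (i ⁻¹ᵁ o.opensRange).ι ≫ i = (h ≫ j₁) ≫ c.j := by
      simp only [h, Category.assoc]
      rw [show j₁ ≫ c.j = o from rfl, Scheme.Hom.isoOpensRange_inv_comp, morphismRestrict_ι]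
    let k : Z' ⟶ pullback i c.j := pullback.lift (i ⁻¹ᵁ o.opensRange).ι (h ≫ j₁) hk
    have hfac : h ≫ j₁ = (k ≫ e.hom) ≫ Spec.map (CommRingCat.ofHom (Ideal.Quotient.mk J)) := by
      refine Eq.trans ?_ (Category.assoc _ _ _).symm
      rw [← he]
      exact (pullback.lift_snd _ _ _).symm
    have hkill : ∀ r ∈ J, φ (algebraMap c.B T' r) = 0 := by
      intro r hr
      have h' := congrArg (fun m => ((Scheme.ΓSpecIso (.of c.B)).inv ≫ m.appTop).hom r) hfac
      simp only [Scheme.Hom.comp_appTop, j₁] at h'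
      rw [← Scheme.ΓSpecIso_inv_naturality_assoc, ← Scheme.ΓSpecIso_inv_naturality_assoc] at h'
      refine h'.trans ?_
      rw [CommRingCat.comp_apply, show CommRingCat.ofHom (Ideal.Quotient.mk J) r = 0 from Ideal.Quotient.eq_zero_iff_mem.2 hr, map_zero]
    have hIφ : ∀ a ∈ I, φ a = 0 := fun a ha => (Ideal.map_le_iff_le_comap.2
      (show J ≤ (RingHom.ker φ).comap (algebraMap c.B T') from fun r hr => hkill r hr)) (hI ha)
    refine ⟨Z'.toSpecΓ ≫ Spec.map (CommRingCat.ofHom (Ideal.Quotient.lift I φ hIφ)), ?_⟩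
    rw [Category.assoc, ← Category.assoc (Spec.map _) j₂, ← Spec.map_comp, ← CommRingCat.ofHom_comp,
      Ideal.Quotient.lift_comp_mk, ← Category.assoc, hh]
    simp [h]

end Groth.Agent.EtSliceSubLib
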